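import Mathlib

/-!
# The two charts of the blow-up of a regular surface point, inside the fraction field
-/

set_option autoImplicit false

open IsLocalRing

namespace Groth.Agent.Colength

universe u

variable {A K : Type u} [CommRing A] [Field K] [Algebra A K] [FaithfulSMul A K]
  (x y : A)

local notation "φ" => algebraMap A K

/-- The chart `A[y / x]`. -/
noncomputable def chartK (K : Type u) [Field K] [Algebra A K] (x y : A) : Subalgebra A K :=
  Algebra.adjoin A {algebraMap A K y / algebraMap A K x}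

/-- The overlap of the charts. -/
noncomputable def bothK (K : Type u) [Field K] [Algebra A K] (x y : A) : Subalgebra A K :=
  Algebra.adjoin A {algebraMap A K y / algebraMap A K x, algebraMap A K x / algebraMap A K y}

variable {x y}

/-- The hypotheses on the parameters. -/
structure Params [IsLocalRing A] (x y : A) : Prop where
  span : maximalIdeal A = Ideal.span {x, y}
  primex : Prime x
  primey : Prime y
  ndvd : ¬ x ∣ y
  ndvd' : ¬ y ∣ x

theorem Params.symm [IsLocalRing A] (h : Params x y) : Params y x :=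
  ⟨by rw [h.span, Set.pair_comm], h.primey, h.primex, h.ndvd', h.ndvd⟩

theorem Params.memx [IsLocalRing A] (h : Params x y) : x ∈ maximalIdeal A := by
  rw [h.span]; exact Ideal.subset_span (by simp)

theorem Params.memy [IsLocalRing A] (h : Params x y) : y ∈ maximalIdeal A := h.symm.memx

theorem ne_zero' [IsLocalRing A] (h : Params x y) : φ x ≠ 0 :=
  (map_ne_zero_iff _ (FaithfulSMul.algebraMap_injective A K)).mpr h.primex.ne_zero

section Order

variable [IsLocalRing A] (h : Params x y)
include h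

theorem pow_succ_le (j : ℕ) :
    maximalIdeal A ^ (j + 1) ≤ Ideal.span {x} * maximalIdeal A ^ j ⊔ Ideal.span {y ^ (j + 1)} := by
  have hm : maximalIdeal A = Ideal.span {x} ⊔ Ideal.span {y} := by
    rw [h.span, ← Ideal.span_union, Set.singleton_union]
  induction j with
  | zero => simp [hm]
  | succ j ih =>
    rw [pow_succ]
    refine (Ideal.mul_mono_left ih).trans ?_
    rw [Ideal.sup_mul, sup_le_iff]
    constructor
    · rw [mul_assoc, ← pow_succ]
      exact le_sup_left
    · nth_rw 1 [hm]
      rw [Ideal.mul_sup, sup_le_iff, Ideal.span_singleton_mul_span_singleton,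
        Ideal.span_singleton_mul_span_singleton]
      constructor
      · refine le_trans ?_ le_sup_left
        rw [Ideal.span_singleton_le_iff_mem, mul_comm (y ^ (j + 1))]
        exact Ideal.mul_mem_mul (Ideal.mem_span_singleton_self x) (Ideal.pow_mem_pow h.memy _)
      · rw [← pow_succ]
        exact le_sup_right

theorem colon_one [IsDomain A] {a : A} {j : ℕ} (ha : a * x ∈ maximalIdeal A ^ (j + 1)) :
    a ∈ maximalIdeal A ^ j := by
  obtain ⟨p, hp, q, hq, hpq⟩ := Submodule.mem_sup.1 (pow_succ_le h j ha)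
  obtain ⟨u, hu, rfl⟩ := Ideal.mem_span_singleton_mul.1 hp
  obtain ⟨c, rfl⟩ := Ideal.mem_span_singleton'.1 hq
  have hdvd : x ∣ c * y ^ (j + 1) := ⟨a - u, by linear_combination hpq⟩
  obtain ⟨c', rfl⟩ := (h.primex.dvd_or_dvd hdvd).resolve_right fun hy => h.ndvd (h.primex.dvd_of_dvd_pow hy)
  have : a = u + c' * y ^ (j + 1) := mul_left_cancel₀ h.primex.ne_zero (by linear_combination -hpq)
  rw [this]
  exact add_mem hu (Ideal.mul_mem_left _ _ (Ideal.pow_le_pow_right (Nat.le_succ j) (Ideal.pow_mem_pow h.memy _)))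

theorem colon_pow [IsDomain A] {a : A} {k N : ℕ} (ha : a * x ^ N ∈ maximalIdeal A ^ (k + N)) :
    a ∈ maximalIdeal A ^ k := by
  induction N generalizing a with
  | zero => simpa using ha
  | succ N ih =>
    refine ih (colon_one h ?_)
    rwa [mul_assoc, ← pow_succ, add_assoc]

/-- Clearing denominators of an element of a chart. -/
theorem exists_form {c : K} (hc : c ∈ chartK K x y) :
    ∃ N, ∀ M ≥ N, ∃ a ∈ maximalIdeal A ^ M, φ a = c * φ x ^ M := by
  have hx := ne_zero' (K := K) h
  unfold chartK at hc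
  induction hc using Algebra.adjoin_induction with
  | mem z hz =>
    rw [Set.mem_singleton_iff] at hz
    subst hz
    refine ⟨1, fun M hM => ⟨y * x ^ (M - 1), ?_, ?_⟩⟩
    · have := Ideal.mul_mem_mul h.memy (Ideal.pow_mem_pow h.memx (M - 1))
      rwa [← pow_succ', Nat.sub_add_cancel hM] at this
    · rw [map_mul, map_pow]
      conv_rhs => rw [← Nat.sub_add_cancel hM, pow_succ', ← mul_assoc, div_mul_cancel₀ _ hx]
  | algebraMap r =>
    exact ⟨0, fun M _ => ⟨r * x ^ M, Ideal.mul_mem_left _ _ (Ideal.pow_mem_pow h.memx M), by simp⟩⟩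
  | add a b _ _ iha ihb =>
    obtain ⟨N, hN⟩ := iha
    obtain ⟨N', hN'⟩ := ihb
    refine ⟨max N N', fun M hM => ?_⟩
    obtain ⟨p, hp, hp'⟩ := hN M (le_of_max_le_left hM)
    obtain ⟨q, hq, hq'⟩ := hN' M (le_of_max_le_right hM)
    exact ⟨p + q, add_mem hp hq, by rw [map_add, hp', hq', add_mul]⟩
  | mul a b _ _ iha ihb =>
    obtain ⟨N, hN⟩ := iha
    obtain ⟨N', hN'⟩ := ihb
    refine ⟨N + N', fun M hM => ?_⟩
    obtain ⟨p, hp, hp'⟩ := hN (M - N') (by omega)
    obtain ⟨q, hq, hq'⟩ := hN' N' le_rfl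
    refine ⟨p * q, ?_, ?_⟩
    · have := Ideal.mul_mem_mul hp hq
      rwa [← pow_add, Nat.sub_add_cancel (by omega)] at this
    · rw [map_mul, hp', hq']
      conv_rhs => rw [← Nat.sub_add_cancel (show N' ≤ M by omega), pow_add]
      ring

theorem mem_pow_of_eq {c : K} (hc : c ∈ chartK K x y) {a : A} {k : ℕ} (ha : φ a = φ x ^ k * c) :
    a ∈ maximalIdeal A ^ k := by
  obtain ⟨N, hN⟩ := exists_form h hc
  obtain ⟨b, hb, hb'⟩ := hN N le_rfl
  have : IsDomain A := (FaithfulSMul.algebraMap_injective A K).isDomain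
  refine colon_pow h (N := N) ?_
  have : a * x ^ N = x ^ k * b := FaithfulSMul.algebraMap_injective A K (by
    simp only [map_mul, map_pow, ha, hb']; ring)
  rw [this, pow_add]
  exact Ideal.mul_mem_mul (Ideal.pow_mem_pow h.memx k) hb

/-- The global sections of `E^d`. -/
theorem exists_of_compat {c₀ c₁ : K} (h₀ : c₀ ∈ chartK K x y) (h₁ : c₁ ∈ chartK K y x) {d : ℕ}
    (he : φ x ^ d * c₀ = φ y ^ d * c₁) : ∃ a ∈ maximalIdeal A ^ d, φ a = φ x ^ d * c₀ := by
  have : IsDomain A := (FaithfulSMul.algebraMap_injective A K).isDomain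
  obtain ⟨N, hN⟩ := exists_form h h₀
  obtain ⟨N', hN'⟩ := exists_form h.symm h₁
  obtain ⟨a₀, -, ha₀⟩ := hN (N + N' + d) (by omega)
  obtain ⟨a₁, -, ha₁⟩ := hN' (N + N' + d) (by omega)
  have he' : a₀ * y ^ (N + N') = a₁ * x ^ (N + N') := FaithfulSMul.algebraMap_injective A K (by
    simp only [map_mul, map_pow, ha₀, ha₁]
    linear_combination φ x ^ (N + N') * φ y ^ (N + N') * he)
  obtain ⟨a, rfl⟩ : x ^ (N + N') ∣ a₀ :=
    h.primex.pow_dvd_of_dvd_mul_right _ (fun hy => h.ndvd (h.primex.dvd_of_dvd_pow hy))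
      ⟨a₁, by rw [he']; ring⟩
  have ha : φ a = φ x ^ d * c₀ := by
    refine mul_left_cancel₀ (pow_ne_zero (N + N') (ne_zero' (K := K) h)) ?_
    rw [← map_pow, ← map_mul, ha₀, pow_add, map_pow]
    ring
  exact ⟨a, mem_pow_of_eq h h₀ ha, ha⟩

theorem exists_div {d : ℕ} : ∀ a ∈ maximalIdeal A ^ d, φ a / φ x ^ d ∈ chartK K x y := by
  have hx := ne_zero' (K := K) h
  induction d with
  | zero =>
    intro a _
    simpa using Subalgebra.algebraMap_mem (chartK K x y) a
  | succ d ih =>
    intro a ha
    rw [pow_succ'] at ha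
    refine Submodule.mul_induction_on ha (fun p hp q hq => ?_) fun p q hp hq => ?_
    · rw [map_mul, pow_succ', mul_div_mul_comm]
      refine mul_mem ?_ (ih q hq)
      rw [h.span, Ideal.mem_span_pair] at hp
      obtain ⟨r, s, rfl⟩ := hp
      rw [map_add, map_mul, map_mul, add_div, mul_div_assoc, mul_div_assoc, div_self hx, mul_one]
      exact add_mem (Subalgebra.algebraMap_mem _ r)
        (mul_mem (Subalgebra.algebraMap_mem _ s) (Algebra.self_mem_adjoin_singleton A _))
    · rw [map_add, add_div]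
      exact add_mem hp hq

/-- The overlap is the sum of the charts. -/
theorem bothK_le :
    (bothK K x y).toSubmodule ≤ (chartK K x y).toSubmodule ⊔ (chartK K y x).toSubmodule := by
  have hx := ne_zero' (K := K) h
  have hy := ne_zero' (K := K) h.symm
  set T := φ y / φ x
  set S := φ x / φ y
  set P := (chartK K x y).toSubmodule ⊔ (chartK K y x).toSubmodule
  have hTS : T * S = 1 := by simp only [T, S]; field_simp
  have hrep : ∀ (U : K) (c : K), c ∈ Algebra.adjoin A {U} →
      ∃ r : A, ∃ c' ∈ Algebra.adjoin A {U}, c = φ r + U * c' := by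
    intro U c hc
    induction hc using Algebra.adjoin_induction with
    | mem z hz =>
      rw [Set.mem_singleton_iff] at hz
      exact ⟨0, 1, one_mem _, by rw [hz]; simp⟩
    | algebraMap r => exact ⟨r, 0, zero_mem _, by simp⟩
    | add a b _ _ iha ihb =>
      obtain ⟨r, c', hc', rfl⟩ := iha
      obtain ⟨s, d', hd', rfl⟩ := ihb
      exact ⟨r + s, c' + d', add_mem hc' hd', by rw [map_add]; ring⟩
    | mul a b ha _ iha ihb =>
      obtain ⟨r, c', hc', rfl⟩ := iha
      obtain ⟨s, d', hd', rfl⟩ := ihb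
      exact ⟨r * s, c' * φ s + (φ r + U * c') * d',
        add_mem (mul_mem hc' (Subalgebra.algebraMap_mem _ s)) (mul_mem ha hd'), by rw [map_mul]; ring⟩
  have hT : ∀ p ∈ P, T * p ∈ P ∧ S * p ∈ P := by
    intro p hp
    obtain ⟨u, hu, v, hv, rfl⟩ := Submodule.mem_sup.1 hp
    rw [Subalgebra.mem_toSubmodule] at hu hv
    rw [mul_add, mul_add]
    refine ⟨add_mem (Submodule.mem_sup_left ((Subalgebra.mem_toSubmodule _).2 (mul_mem (Algebra.self_mem_adjoin_singleton A T) hu))) ?_,
      add_mem ?_ (Submodule.mem_sup_right ((Subalgebra.mem_toSubmodule _).2 (mul_mem (Algebra.self_mem_adjoin_singleton A S) hv)))⟩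
    · obtain ⟨r, c, hc, rfl⟩ := hrep S v hv
      rw [mul_add, ← mul_assoc, hTS, one_mul]
      exact add_mem (Submodule.mem_sup_left ((Subalgebra.mem_toSubmodule _).2 (mul_mem (Algebra.self_mem_adjoin_singleton A T) (Subalgebra.algebraMap_mem _ r))))
        (Submodule.mem_sup_right hc)
    · obtain ⟨r, c, hc, rfl⟩ := hrep T u hu
      rw [mul_add, ← mul_assoc, mul_comm S T, hTS, one_mul]
      exact add_mem (Submodule.mem_sup_right ((Subalgebra.mem_toSubmodule _).2 (mul_mem (Algebra.self_mem_adjoin_singleton A S) (Subalgebra.algebraMap_mem _ r))))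
        (Submodule.mem_sup_left hc)
  intro c hc
  suffices hh : ∀ p ∈ P, c * p ∈ P by
    simpa using hh 1 (Submodule.mem_sup_left ((Subalgebra.mem_toSubmodule _).2 (one_mem _)))
  induction hc using Algebra.adjoin_induction with
  | mem z hz =>
    rcases hz with rfl | rfl
    · exact fun p hp => (hT p hp).1
    · exact fun p hp => (hT p hp).2
  | algebraMap r => exact fun p hp => by rw [← Algebra.smul_def]; exact P.smul_mem r hp
  | add a b _ _ iha ihb => exact fun p hp => by rw [add_mul]; exact add_mem (iha p hp) (ihb p hp)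
  | mul a b _ _ iha ihb => exact fun p hp => by rw [mul_assoc]; exact iha _ (ihb p hp)

end Order

theorem chartK_le_bothK : chartK K x y ≤ bothK K x y := Algebra.adjoin_mono (by simp)

theorem bothK_symm : bothK K x y = bothK K y x := by rw [bothK, bothK, Set.pair_comm]

end Groth.Agent.Colength
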