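import Mathlib
import Groth.Agent.RegLoc6.Basic
import Groth.Agent.Colength.Chart

/-!
# Parameters of a regular local ring of dimension two
-/

set_option autoImplicit false

open IsLocalRing

namespace Groth.Agent.Colength

universe u

theorem exists_params (A : Type u) [CommRing A] [IsRegularLocalRing A] (hA : ringKrullDim A = 2) :
    ∃ a : Fin 2 → A, Ideal.span (Set.range a) = maximalIdeal A ∧ Params (a 0) (a 1) := by
  classical
  haveI : IsDomain A := RegLoc6.isDomain_of_isRegularLocalRing A
  have h2 : (maximalIdeal A).spanFinrank = 2 := by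
    have h := IsRegularLocalRing.spanFinrank_maximalIdeal (R := A)
    rw [hA] at h
    exact_mod_cast h
  obtain ⟨G, hG, hspan⟩ :=
    Submodule.FG.exists_span_finset_card_eq_spanFinrank (IsNoetherian.noetherian (maximalIdeal A))
  rw [h2, Finset.card_eq_two] at hG
  obtain ⟨x, y, -, rfl⟩ := hG
  simp only [Finset.coe_insert, Finset.coe_singleton] at hspan
  have hlow : ∀ z ∈ maximalIdeal A, ¬ maximalIdeal A ≤ Ideal.span {z} ⊔ maximalIdeal A ^ 2 :=
      fun z hzu hz => by
    have hzm : ¬ maximalIdeal A ≤ Ideal.span {z} := fun hle => by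
      have heq : Submodule.span A {z} = maximalIdeal A :=
        le_antisymm ((Submodule.span_singleton_le_iff_mem _ _).2 hzu) hle
      have h := Submodule.spanFinrank_span_le_ncard_of_finite (R := A) (M := A) (Set.finite_singleton z)
      rw [heq, h2, Set.ncard_singleton] at h
      omega
    refine hzm (Submodule.le_of_le_smul_of_le_jacobson_bot (IsNoetherian.noetherian _)
      (IsLocalRing.maximalIdeal_le_jacobson ⊥) ?_)
    rw [smul_eq_mul, ← sq]
    exact hz
  have key : ∀ p q : A, Ideal.span {p, q} = maximalIdeal A → Prime p ∧ ¬ p ∣ q := by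
    intro p q hpq
    have hpm : p ∈ maximalIdeal A := by rw [← hpq]; exact Ideal.subset_span (by simp)
    have hqm : q ∈ maximalIdeal A := by rw [← hpq]; exact Ideal.subset_span (by simp)
    have hp2 : p ∉ maximalIdeal A ^ 2 := fun h => hlow q hqm (by
      nth_rw 1 [← hpq]
      rw [Ideal.span_le]
      rintro w (rfl | rfl)
      · exact Submodule.mem_sup_right h
      · exact Submodule.mem_sup_left (Ideal.mem_span_singleton_self _))
    haveI := (RegLoc6.isRegularLocalRing_quot_and hpm hp2).1
    haveI : IsDomain (A ⧸ Ideal.span {p}) := RegLoc6.isDomain_of_isRegularLocalRing _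
    haveI hpp : (Ideal.span {p}).IsPrime := (Ideal.Quotient.isDomain_iff_prime _).1 inferInstance
    have hp0 : p ≠ 0 := fun h => hp2 (h ▸ zero_mem _)
    refine ⟨(Ideal.span_singleton_prime hp0).1 hpp, fun h => hlow p hpm ?_⟩
    refine le_trans ?_ le_sup_left
    nth_rw 1 [← hpq]
    rw [Ideal.span_le]
    rintro w (rfl | rfl)
    · exact Ideal.mem_span_singleton_self _
    · exact Ideal.mem_span_singleton.2 h
  obtain ⟨hx, hxy⟩ := key x y hspan
  obtain ⟨hy, hyx⟩ := key y x (by rw [Set.pair_comm]; exact hspan)
  refine ⟨![x, y], ?_, ⟨hspan.symm, hx, hy, hxy, hyx⟩⟩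
  rw [Matrix.range_cons_cons_empty]
  exact hspan

end Groth.Agent.Colength
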