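import Groth.Agent.Colength.Geometry
import Groth.Agent.Colength.Params

/-!
# Colength of the weak transform of an ideal under the blow-up of a regular surface point
-/

set_option autoImplicit false
set_option linter.style.haveILetI false
set_option backward.isDefEq.respectTransparency false
set_option backward.isDefEq.respectTransparency.types false
set_option maxHeartbeats 1600000

universe u

open CategoryTheory CategoryTheory.Limits AlgebraicGeometry TopologicalSpace Opposite IsLocalRing

noncomputable section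

namespace Groth.Agent.Colength

open BlowUpLib RegBlow6

variable {A : Type u} [CommRing A] {X : Scheme.{u}} (b : X ⟶ Spec (CommRingCat.of A))
  (I' : X.IdealSheafData)

/-- The structure map of the functions of the weak transform. -/
abbrev wHom : A →+* Γ(I'.subscheme, I'.subschemeι ⁻¹ᵁ ⊤) :=
  (I'.subschemeι.app ⊤).hom.comp (strHom b ⊤)

/-- The sum of the lengths at the points of a finite scheme with closed points is at most the length
of the global functions. -/
theorem sum_length_le {W : Scheme.{u}} [DiscreteTopology W] [Finite W] (ρ : A →+* Γ(W, ⊤)) :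
    letI := ρ.toAlgebra
    ∑ᶠ p : W, Module.length (W.presheaf.stalk p) (W.presheaf.stalk p) ≤ Module.length A Γ(W, ⊤) := by
  classical
  letI := ρ.toAlgebra
  letI : Fintype W := Fintype.ofFinite W
  letI : ∀ p : W, Algebra A (W.presheaf.stalk p) :=
    fun p => ((W.presheaf.germ ⊤ p trivial).hom.comp ρ).toAlgebra
  let Φ : Γ(W, ⊤) →ₗ[A] (∀ p : W, W.presheaf.stalk p) := LinearMap.pi fun p =>
    { toFun := fun s => W.presheaf.germ ⊤ p trivial s
      map_add' := fun _ _ => map_add _ _ _
      map_smul' := fun r s => by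
        simp only [Algebra.smul_def, RingHom.id_apply]
        exact map_mul _ _ _ }
  have hΦ : Function.Surjective Φ := by
    intro v
    let V : W → W.Opens := fun p => ⟨{p}, isOpen_discrete _⟩
    have hsec : ∀ p : W, ∃ s : Γ(W, V p), W.presheaf.germ (V p) p rfl s = v p := by
      intro p
      obtain ⟨O, hpO, s, hs⟩ := TopCat.Presheaf.exists_germ_eq W.presheaf (v p)
      have hle : V p ≤ O := fun q hq => (Set.mem_singleton_iff.1 hq).symm ▸ hpO
      exact ⟨W.presheaf.map (homOfLE hle).op s,
        (TopCat.Presheaf.germ_res_apply W.presheaf (homOfLE hle) p rfl s).trans hs⟩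
    choose s hs using hsec
    obtain ⟨gl, hgl, -⟩ := TopCat.Sheaf.existsUnique_gluing' W.sheaf V ⊤ (fun p => homOfLE le_top)
      (fun p _ => Opens.mem_iSup.2 ⟨p, rfl⟩) s (by
        intro p q
        by_cases hpq : p = q
        · subst hpq; rfl
        · have hbot : V p ⊓ V q = ⊥ := by
            ext z
            simp only [Opens.coe_inf, Opens.coe_bot, Set.mem_inter_iff, Set.mem_empty_iff_false, iff_false]
            rintro ⟨h1, h2⟩
            exact hpq ((Set.mem_singleton_iff.1 h1).symm.trans (Set.mem_singleton_iff.1 h2))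
          haveI : Subsingleton Γ(W, V p ⊓ V q) := by rw [hbot]; infer_instance
          exact Subsingleton.elim (α := Γ(W, V p ⊓ V q)) _ _)
    refine ⟨gl, funext fun p => ?_⟩
    show W.presheaf.germ ⊤ p trivial gl = v p
    rw [← hs p, ← hgl p]
    exact (TopCat.Presheaf.germ_res_apply W.presheaf (homOfLE le_top) p rfl gl).symm
  refine le_trans ?_ (Module.length_le_of_surjective Φ hΦ)
  rw [finsum_eq_sum_of_fintype, Module.length_pi_of_fintype]
  refine Finset.sum_le_sum fun p _ => ?_
  have := Submodule.length_le_length_restrictScalars (R := W.presheaf.stalk p) (M := W.presheaf.stalk p) A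
    (p := ⊤)
  rwa [Submodule.restrictScalars_top, Module.length_top, Module.length_top] at this

/-- The main theorem. -/
theorem weak_colength [IsRegularLocalRing A] (hA : ringKrullDim A = 2)
    (hb : BlowUp.IsBlowUp b (centre (maximalIdeal A))) (I : Ideal A) {n : ℕ}
    (hIn : maximalIdeal A ^ n ≤ I) (hIm : I ≤ maximalIdeal A) (d : ℕ)
    (hd : (centre I).comap b = I' * (centre (maximalIdeal A)).comap b ^ d)
    (hmax : ¬ (centre I).comap b ≤ (centre (maximalIdeal A)).comap b ^ (d + 1)) :
    letI := (wHom b I').toAlgebra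
    0 < d ∧ (I'.support : Set X).Finite ∧ (∀ x ∈ (I'.support : Set X), IsClosed ({x} : Set X)) ∧
      Module.length A Γ(I'.subscheme, I'.subschemeι ⁻¹ᵁ ⊤) < Module.length A (A ⧸ I) ∧
      ∑ᶠ x : ↥I'.subscheme, Module.length (I'.subscheme.presheaf.stalk x) (I'.subscheme.presheaf.stalk x) ≤
        Module.length A Γ(I'.subscheme, I'.subschemeι ⁻¹ᵁ ⊤) := by
  classical
  letI := (wHom b I').toAlgebra
  haveI : IsDomain A := RegLoc6.isDomain_of_isRegularLocalRing A
  haveI : IsDomain (CommRingCat.of A) := ‹IsDomain A›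
  obtain ⟨a, hI, hP⟩ := exists_params A hA
  change cI a = maximalIdeal A at hI
  rw [← hI] at hb hd hmax
  obtain ⟨e, he⟩ := exists_iso (isBlowUp_local (cI a)) hb
  haveI : IsSeparated b := by
    haveI := isProper_toBase (cI a) (Submodule.fg_span (Set.finite_range a))
    rw [show b = e.inv ≫ toBase (cI a) by rw [← he, e.inv_hom_id_assoc]]
    infer_instance
  have hne : Nonempty X := by
    have ha0 : a 0 ≠ 0 := hP.primex.ne_zero
    haveI : Nontrivial (Localization.Away (a 0)) :=
      (IsLocalization.injective _ (powers_le_nonZeroDivisors_of_noZeroDivisors ha0)).nontrivial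
    obtain ⟨P⟩ : Nonempty (PrimeSpectrum (BlowUp.affineAlgebra A (cI a) (a 0))) := inferInstance
    exact ⟨e.hom (chart (cI a) ⟨a 0, mem_cI a 0⟩ P)⟩
  rcases Lib.BlowUpInt.isEmpty_or_birational hb with hE | ⟨hXint, hgen, hstalk⟩
  · exact absurd hne (not_nonempty_iff.2 hE)
  haveI := hXint
  haveI := hstalk
  letI : Algebra A X.functionField :=
    ((X.presheaf.germ ⊤ (genericPoint X) trivial).hom.comp (strHom b ⊤)).toAlgebra
  haveI : FaithfulSMul A X.functionField := by
    refine (faithfulSMul_iff_algebraMap_injective _ _).2 fun r s hrs => ?_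
    have key : ∀ r, algebraMap A X.functionField r = b.stalkMap (genericPoint X)
        ((Spec (CommRingCat.of A)).presheaf.germ ⊤ (b (genericPoint X)) trivial
          ((Scheme.ΓSpecIso (CommRingCat.of A)).inv r)) := by
      intro r
      rw [Scheme.Hom.germ_stalkMap_apply]
      show X.presheaf.germ ⊤ _ _ (((Scheme.ΓSpecIso (CommRingCat.of A)).inv ≫ b.appLE ⊤ ⊤ le_top).hom r) = _
      rw [Scheme.Hom.appLE, CommRingCat.hom_comp, RingHom.comp_apply, CommRingCat.hom_comp, RingHom.comp_apply]
      exact TopCat.Presheaf.germ_res_apply X.presheaf (homOfLE (le_top : (⊤ : X.Opens) ≤ b ⁻¹ᵁ ⊤)) _ trivial _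
    rw [key, key] at hrs
    have h1 := (asIso (b.stalkMap (genericPoint X))).commRingCatIsoToRingEquiv.injective hrs
    have h2 := germ_injective_of_isIntegral (Spec (CommRingCat.of A)) (b (genericPoint X))
      (U := ⊤) trivial h1
    exact (Scheme.ΓSpecIso (CommRingCat.of A)).commRingCatIsoToRingEquiv.symm.injective h2
  have hane : ∀ k, algebraMap A X.functionField (a k) ≠ 0 := fun k => by
    have : k = 0 ∨ k = 1 := by omega
    rcases this with rfl | rfl
    · exact ne_zero' hP
    · exact ne_zero' hP.symm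
  obtain ⟨U, hg, hcov, hE, hgalg, hinj, hmemc, hsurjc, hboth⟩ :=
    exists_charts b a hb (fun _ => rfl) hane
  have hcov' : ⨆ k, (U k).1 = ⊤ := top_unique fun p _ => Opens.mem_iSup.2 (hcov p)
  -- the inverse image ideal on a chart, in the function field
  have hJmem : ∀ k l, k ≠ l → ∀ z : Γ(X, (U k).1),
      z ∈ ((centre I).comap b).ideal (U k) ↔
        X.presheaf.germ (U k).1 _ (hg k) z ∈ I • (chartK X.functionField (a k) (a l)).toSubmodule := by
    intro k l hkl z
    rw [ideal_comap_centre]
    constructor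
    · intro hz
      refine Submodule.span_induction (p := fun z _ => X.presheaf.germ (U k).1 _ (hg k) z ∈
          I • (chartK X.functionField (a k) (a l)).toSubmodule) ?_ ?_ ?_ ?_ hz
      · rintro _ ⟨r, hr, rfl⟩
        rw [hgalg, Algebra.algebraMap_eq_smul_one]
        exact Submodule.smul_mem_smul hr ((Subalgebra.mem_toSubmodule _).2 (one_mem _))
      · rw [map_zero]; exact zero_mem _
      · intro p q _ _ hp hq; rw [map_add]; exact add_mem hp hq
      · intro c p _ hp
        rw [smul_eq_mul, map_mul]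
        exact mul_mem_smul I _ hp (hmemc k l hkl c)
    · intro hz
      obtain ⟨z', hz', he⟩ : ∃ z' ∈ I.map (strHom b (U k).1),
          X.presheaf.germ (U k).1 _ (hg k) z' = X.presheaf.germ (U k).1 _ (hg k) z := by
        refine Submodule.smul_induction_on hz (fun r hr c hc => ?_) fun p q hp hq => ?_
        · obtain ⟨w, hw⟩ := hsurjc k l hkl c hc
          refine ⟨strHom b (U k).1 r * w, Ideal.mul_mem_right _ _ (Ideal.mem_map_of_mem _ hr), ?_⟩
          rw [map_mul, hgalg, hw, Algebra.smul_def]
        · obtain ⟨p', hp', ep⟩ := hp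
          obtain ⟨q', hq', eq⟩ := hq
          exact ⟨p' + q', add_mem hp' hq', by rw [map_add, ep, eq]⟩
      rwa [← hinj k he]
  have h01 : ∀ k : Fin (1 + 1), k = 0 ∨ k = 1 := by decide
  have hpow : ∀ k, ((centre (cI a)).comap b ^ d).ideal (U k) = Ideal.span {strHom b (U k).1 (a k) ^ d} := by
    intro k
    rw [Scheme.IdealSheafData.ideal_pow, Pi.pow_apply, hE k, Ideal.span_singleton_pow]
  have hJ : ∀ k, ((centre I).comap b).ideal (U k) =
      I'.ideal (U k) * Ideal.span {strHom b (U k).1 (a k) ^ d} := by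
    intro k
    rw [hd, Scheme.IdealSheafData.ideal_mul, Pi.mul_apply, hpow k]
  -- `d` is positive and `I ≤ m ^ d`, not `≤ m ^ (d + 1)`
  have hpar : ∀ k l, k ≠ l → Params (a k) (a l) := fun k l hkl => by
    have : (k = 0 ∧ l = 1) ∨ (k = 1 ∧ l = 0) := by omega
    rcases this with ⟨rfl, rfl⟩ | ⟨rfl, rfl⟩
    · exact hP
    · exact hP.symm
  have hId' : ∀ j, I ≤ maximalIdeal A ^ j →
      (centre I).comap b ≤ (centre (cI a)).comap b ^ j := by
    intro j hj
    refine Scheme.IdealSheafData.le_of_iSup_eq_top U hcov' fun k => ?_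
    rw [ideal_comap_centre, Scheme.IdealSheafData.ideal_pow, Pi.pow_apply, ideal_comap_centre, hI,
      ← Ideal.map_pow]
    exact Ideal.map_mono hj
  have hd0 : 0 < d := by
    rcases Nat.eq_zero_or_pos d with h0 | h0
    · exact absurd (hId' (d + 1) (by rw [h0, zero_add, pow_one]; exact hIm)) hmax
    · exact h0
  have hnle : ¬ I ≤ maximalIdeal A ^ (d + 1) := fun h => hmax (hId' _ h)
  have hIle : I ≤ maximalIdeal A ^ d := by
    intro r hr
    have h1 : strHom b (U 0).1 r ∈ ((centre I).comap b).ideal (U 0) := by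
      rw [ideal_comap_centre]; exact Ideal.mem_map_of_mem _ hr
    rw [hJ 0] at h1
    obtain ⟨z, -, hz⟩ := Ideal.mem_mul_span_singleton.1 h1
    have h2 := congrArg (X.presheaf.germ (U 0).1 _ (hg 0)) hz
    rw [map_mul, map_pow, hgalg, hgalg] at h2
    exact mem_pow_of_eq hP (hmemc 0 1 (by decide) z) (by rw [← h2, mul_comm])
  -- the weak transform on a chart
  let π : ∀ k l, k ≠ l → (Γ(X, (U k).1) →+*
      chartK X.functionField (a k) (a l) ⧸ weakK I d X.functionField (a k) (a l)) := fun k l hkl =>
    (Ideal.Quotient.mk _).comp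
      ((X.presheaf.germ (U k).1 _ (hg k)).hom.codRestrict (chartK X.functionField (a k) (a l))
        (hmemc k l hkl))
  have hπsurj : ∀ k l (hkl : k ≠ l), Function.Surjective (π k l hkl) := by
    intro k l hkl q
    obtain ⟨c, rfl⟩ := Ideal.Quotient.mk_surjective q
    obtain ⟨z, hz⟩ := hsurjc k l hkl c.1 c.2
    exact ⟨z, congrArg (Ideal.Quotient.mk _) (Subtype.ext hz)⟩
  have hker : ∀ k l (hkl : k ≠ l) z, π k l hkl z = 0 ↔ z ∈ I'.ideal (U k) := by
    intro k l hkl z
    show Ideal.Quotient.mk _ _ = 0 ↔ _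
    rw [Ideal.Quotient.eq_zero_iff_mem, mem_weakK]
    show algebraMap A X.functionField (a k) ^ d * X.presheaf.germ (U k).1 _ (hg k) z ∈ _ ↔ _
    rw [← hgalg k (a k), ← map_pow, ← map_mul, ← hJmem k l hkl, hJ k]
    constructor
    · intro h
      obtain ⟨w, hw, hwz⟩ := Ideal.mem_mul_span_singleton.1 h
      have : w = z := by
        refine hinj k (mul_left_cancel₀ (pow_ne_zero d (hane k)) ?_)
        have h3 := congrArg (X.presheaf.germ (U k).1 _ (hg k)) hwz
        rw [map_mul, map_mul, map_pow, hgalg] at h3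
        rw [← h3, mul_comm]
      rwa [← this]
    · intro h
      rw [mul_comm (_ ^ d) z]
      exact Ideal.mul_mem_mul h (Ideal.mem_span_singleton_self _)
  let ι := I'.subschemeι
  let r : ∀ k, Γ(X, (U k).1) →+* Γ(I'.subscheme, ι ⁻¹ᵁ (U k).1) := fun k => (ι.app (U k).1).hom
  have hrsurj : ∀ k, Function.Surjective (r k) := fun k => I'.subschemeι_app_surjective (U k)
  have hrker : ∀ k, RingHom.ker (r k) = I'.ideal (U k) := fun k => I'.ker_subschemeι_app (U k)
  let θ : ∀ k l, k ≠ l → (Γ(I'.subscheme, ι ⁻¹ᵁ (U k).1) →+*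
      chartK X.functionField (a k) (a l) ⧸ weakK I d X.functionField (a k) (a l)) := fun k l hkl =>
    (r k).liftOfSurjective (hrsurj k) ⟨π k l hkl, fun z hz => by
      rw [hrker] at hz
      exact (hker k l hkl z).2 hz⟩
  have hθ : ∀ k l (hkl : k ≠ l) z, θ k l hkl (r k z) = π k l hkl z := fun k l hkl z =>
    RingHom.liftOfRightInverse_comp_apply _ _ _ _ _
  have hθbij : ∀ k l (hkl : k ≠ l), Function.Bijective (θ k l hkl) := by
    refine fun k l hkl => ⟨(injective_iff_map_eq_zero _).2 fun z hz => ?_, fun q => ?_⟩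
    · obtain ⟨w, rfl⟩ := hrsurj k z
      rw [hθ k l hkl, hker k l hkl] at hz
      rw [← RingHom.mem_ker, hrker]
      exact hz
    · obtain ⟨z, rfl⟩ := hπsurj k l hkl q
      exact ⟨r k z, hθ k l hkl z⟩
  -- the support is finite and discrete
  have hpiece : ∀ k, Finite ↥(ι ⁻¹ᵁ (U k).1) ∧ DiscreteTopology ↥(ι ⁻¹ᵁ (U k).1) := by
    intro k
    obtain ⟨l, hkl⟩ : ∃ l, k ≠ l := (exists_ne k).imp fun _ h => h.symm
    haveI := isArtinian_quot (K := X.functionField) (hpar k l hkl) hIle hnle hIn hIm
    haveI : IsArtinianRing (chartK X.functionField (a k) (a l) ⧸ weakK I d X.functionField (a k) (a l)) :=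
      isArtinian_of_tower A inferInstance
    haveI : IsArtinianRing Γ(I'.subscheme, ι ⁻¹ᵁ (U k).1) :=
      (RingEquiv.ofBijective _ (hθbij k l hkl)).symm.isArtinianRing
    let Z : I'.subscheme.Opens := ι ⁻¹ᵁ (U k).1
    have hZ : IsAffineOpen Z := (U k).2.preimage ι
    let φ := hZ.isoSpec.hom.homeomorph
    exact ⟨Finite.of_equiv _ φ.toEquiv.symm, φ.symm.discreteTopology⟩
  haveI hWfin : Finite ↥I'.subscheme := by
    haveI := fun k => (hpiece k).1
    refine Finite.of_surjective (fun q : Σ k, ↥(ι ⁻¹ᵁ (U k).1) => (q.2.1 : I'.subscheme)) fun p => ?_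
    obtain ⟨k, hk⟩ := hcov (ι p)
    exact ⟨⟨k, ⟨p, hk⟩⟩, rfl⟩
  haveI hWdisc : DiscreteTopology ↥I'.subscheme := by
    refine discreteTopology_iff_isOpen_singleton.2 fun p => ?_
    obtain ⟨k, hk⟩ := hcov (ι p)
    haveI := (hpiece k).2
    have := (ι ⁻¹ᵁ (U k).1).2.isOpenEmbedding_subtypeVal.isOpenMap _ (isOpen_discrete {(⟨p, hk⟩ : ↥(ι ⁻¹ᵁ (U k).1))})
    simpa using this
  refine ⟨hd0, ?_, ?_, ?_, ?_⟩
  · rw [← Scheme.IdealSheafData.range_subschemeι]
    exact Set.finite_range _
  · intro x hx
    rw [← Scheme.IdealSheafData.range_subschemeι] at hx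
    obtain ⟨p, rfl⟩ := hx
    rw [← Set.image_singleton]
    exact ι.isClosedEmbedding.isClosedMap _ (isClosed_discrete _)
  · -- the length
    let res : ∀ k, Γ(I'.subscheme, ι ⁻¹ᵁ ⊤) →+* Γ(I'.subscheme, ι ⁻¹ᵁ (U k).1) := fun k =>
      (I'.subscheme.presheaf.map (homOfLE (fun p _ => trivial : ι ⁻¹ᵁ (U k).1 ≤ ι ⁻¹ᵁ ⊤)).op).hom
    have hres : ∀ k c, res k (wHom b I' c) = r k (strHom b (U k).1 c) := by
      intro k c
      have := ConcreteCategory.congr_hom (ι.naturality (homOfLE (le_top : (U k).1 ≤ ⊤)).op) (strHom b ⊤ c)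
      exact this.symm.trans (congrArg (r k) (BlowP1.res_strHom b (le_top : (U k).1 ≤ ⊤) c))
    let f : ∀ k l, k ≠ l → (Γ(I'.subscheme, ι ⁻¹ᵁ ⊤) →ₗ[A]
        chartK X.functionField (a k) (a l) ⧸ weakK I d X.functionField (a k) (a l)) := fun k l hkl =>
      { toFun := fun g => θ k l hkl (res k g)
        map_add' := fun p q => by rw [map_add, map_add]
        map_smul' := fun c g => by
          show θ k l hkl (res k (wHom b I' c * g)) = c • _
          rw [map_mul, map_mul, hres, hθ k l hkl]
          obtain ⟨q, hq⟩ := Ideal.Quotient.mk_surjective (θ k l hkl (res k g))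
          rw [← hq]
          refine (map_mul (Ideal.Quotient.mk _) _ q).symm.trans (congrArg (Ideal.Quotient.mk _) (Subtype.ext ?_))
          show X.presheaf.germ (U k).1 _ (hg k) (strHom b (U k).1 c) * (q : X.functionField) = c • (q : X.functionField)
          rw [hgalg, Algebra.smul_def] }
    refine length_lt (K := X.functionField) hP hIle hd0 hnle hIn (f 0 1 (by decide)) (f 1 0 (by decide))
      (fun g h0 h1 => ?_) (fun g c₀ c₁ h0 h1 => ?_)
    · refine TopCat.Sheaf.eq_of_locally_eq' I'.subscheme.sheaf (fun k => ι ⁻¹ᵁ (U k).1) (ι ⁻¹ᵁ ⊤)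
        (fun k => homOfLE fun p _ => trivial) (fun p _ => Opens.mem_iSup.2 (hcov (ι p))) g 0 fun k => ?_
      rw [map_zero]
      have : k = 0 ∨ k = 1 := h01 k
      rcases this with rfl | rfl
      · exact (hθbij 0 1 (by decide)).1 (h0.trans (map_zero _).symm)
      · exact (hθbij 1 0 (by decide)).1 (h1.trans (map_zero _).symm)
    · obtain ⟨z₀, hz₀⟩ := hsurjc 0 1 (by decide) c₀.1 c₀.2
      obtain ⟨z₁, hz₁⟩ := hsurjc 1 0 (by decide) c₁.1 c₁.2
      have e0 : r 0 z₀ = res 0 g := by
        refine (hθbij 0 1 (by decide)).1 ?_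
        rw [hθ 0 1 (by decide)]
        exact (congrArg (Ideal.Quotient.mk _) (Subtype.ext hz₀)).trans h0
      have e1 : r 1 z₁ = res 1 g := by
        refine (hθbij 1 0 (by decide)).1 ?_
        rw [hθ 1 0 (by decide)]
        exact (congrArg (Ideal.Quotient.mk _) (Subtype.ext hz₁)).trans h1
      let hs : X.IsSeparated := by
        exact ⟨by rw [show terminal.from X = b ≫ terminal.from _ from terminal.hom_ext _ _]; infer_instance⟩
      let O : X.affineOpens := ⟨(U 0).1 ⊓ (U 1).1, haveI := hs; (U 0).2.inf (U 1).2⟩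
      let i0 : O.1 ≤ (U 0).1 := inf_le_left
      let i1 : O.1 ≤ (U 1).1 := inf_le_right
      let dlt : Γ(X, O.1) := X.presheaf.map (homOfLE i0).op z₀ - X.presheaf.map (homOfLE i1).op z₁
      have hdlt : dlt ∈ I'.ideal O := by
        rw [← I'.ker_subschemeι_app O, RingHom.mem_ker, map_sub, sub_eq_zero]
        have n0 := ConcreteCategory.congr_hom (ι.naturality (homOfLE i0).op) z₀
        have n1 := ConcreteCategory.congr_hom (ι.naturality (homOfLE i1).op) z₁
        refine n0.trans (Eq.trans ?_ n1.symm)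
        show I'.subscheme.presheaf.map _ (r 0 z₀) = I'.subscheme.presheaf.map _ (r 1 z₁)
        rw [e0, e1]
        show I'.subscheme.presheaf.map _ (I'.subscheme.presheaf.map _ g) =
          I'.subscheme.presheaf.map _ (I'.subscheme.presheaf.map _ g)
        rw [← CommRingCat.comp_apply, ← CommRingCat.comp_apply, ← Functor.map_comp, ← Functor.map_comp]
        rfl
      have hmul : strHom b O.1 (a 0) ^ d * dlt ∈ ((centre I).comap b).ideal O := by
        rw [hd, Scheme.IdealSheafData.ideal_mul, Pi.mul_apply, mul_comm (strHom b O.1 (a 0) ^ d) dlt]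
        refine Ideal.mul_mem_mul hdlt ?_
        rw [Scheme.IdealSheafData.ideal_pow, Pi.pow_apply, ideal_comap_centre]
        exact Ideal.pow_mem_pow (Ideal.mem_map_of_mem _ (mem_cI a 0)) d
      have hgO : ∀ c, X.presheaf.germ O.1 (genericPoint X) ⟨hg 0, hg 1⟩ (strHom b O.1 c) =
          algebraMap A X.functionField c := fun c => by
        rw [← BlowP1.res_strHom b i0 c]
        exact (TopCat.Presheaf.germ_res_apply X.presheaf (homOfLE i0) _ _ _).trans (hgalg 0 c)
      have himg : ∀ z ∈ ((centre I).comap b).ideal O,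
          X.presheaf.germ O.1 (genericPoint X) ⟨hg 0, hg 1⟩ z ∈
            I • (bothK X.functionField (a 0) (a 1)).toSubmodule := by
        intro z hz
        rw [ideal_comap_centre] at hz
        refine Submodule.span_induction (p := fun z _ =>
          X.presheaf.germ O.1 (genericPoint X) ⟨hg 0, hg 1⟩ z ∈
            I • (bothK X.functionField (a 0) (a 1)).toSubmodule) ?_ ?_ ?_ ?_ hz
        · rintro _ ⟨c, hc, rfl⟩
          rw [hgO, Algebra.algebraMap_eq_smul_one]
          exact Submodule.smul_mem_smul hc ((Subalgebra.mem_toSubmodule _).2 (one_mem _))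
        · rw [map_zero]; exact zero_mem _
        · intro p q _ _ hp hq; rw [map_add]; exact add_mem hp hq
        · intro c p _ hp
          rw [smul_eq_mul, map_mul]
          exact mul_mem_smul I _ hp (hboth 0 1 (by decide) c)
      have h4 := himg _ hmul
      rw [map_mul, map_pow, hgO, map_sub] at h4
      rwa [TopCat.Presheaf.germ_res_apply, TopCat.Presheaf.germ_res_apply, hz₀, hz₁] at h4
  · exact sum_length_le (W := I'.subscheme) (wHom b I')

end Groth.Agent.Colength
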