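import Mathlib
import Groth.Agent.Colength.Chart

/-!
# The colength of a weak transform on the blow-up of a regular surface point
-/

set_option autoImplicit false

open IsLocalRing

namespace Groth.Agent.Colength

universe u

variable {A K : Type u} [CommRing A] [Field K] [Algebra A K] [FaithfulSMul A K]
  (I : Ideal A) (d : ℕ)

local notation "φ" => algebraMap A K

/-- `I • B` is an ideal of `B`. -/
theorem mul_mem_smul (B : Subalgebra A K) {z b : K} (hz : z ∈ I • B.toSubmodule) (hb : b ∈ B) :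
    b * z ∈ I • B.toSubmodule := by
  refine Submodule.smul_induction_on hz (fun r hr c hc => ?_) fun p q hp hq => ?_
  · rw [mul_smul_comm]
    exact Submodule.smul_mem_smul hr ((Subalgebra.mem_toSubmodule _).2 (mul_mem hb hc))
  · rw [mul_add]
    exact add_mem hp hq

/-- The weak transform on a chart. -/
noncomputable def weakK (K : Type u) [Field K] [Algebra A K] [FaithfulSMul A K] (x y : A) :
    Ideal (chartK K x y) where
  carrier := {c : chartK K x y | algebraMap A K x ^ d * (c : K) ∈ I • (chartK K x y).toSubmodule}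
  add_mem' {p q} hp hq := by
    simp only [Set.mem_setOf_eq, Subalgebra.coe_add, mul_add] at hp hq ⊢
    exact add_mem hp hq
  zero_mem' := by simp
  smul_mem' b c hc := by
    simp only [Set.mem_setOf_eq, smul_eq_mul, Subalgebra.coe_mul] at hc ⊢
    rw [mul_left_comm]
    exact mul_mem_smul I _ hc b.2

variable {I d} {x y : A}

theorem mem_weakK {c : chartK K x y} :
    c ∈ weakK I d K x y ↔ φ x ^ d * (c : K) ∈ I • (chartK K x y).toSubmodule := Iff.rfl

variable [IsLocalRing A]

theorem smul_quot_eq_zero {r : A} (hr : r ∈ I) (z : chartK K x y ⧸ weakK I d K x y) : r • z = 0 := by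
  obtain ⟨c, rfl⟩ := Ideal.Quotient.mk_surjective z
  change Ideal.Quotient.mk _ (r • c) = 0
  rw [Ideal.Quotient.eq_zero_iff_mem, mem_weakK, Subalgebra.coe_smul, mul_smul_comm]
  exact Submodule.smul_mem_smul hr ((Subalgebra.mem_toSubmodule _).2
    (mul_mem (pow_mem (Subalgebra.algebraMap_mem _ x) d) c.2))

/-- The quotient of a chart by the weak transform is a finite module. -/
theorem finite_quot (h : Params x y) (hI : I ≤ maximalIdeal A ^ d)
    (hId : ¬ I ≤ maximalIdeal A ^ (d + 1)) {n : ℕ} (hIn : maximalIdeal A ^ n ≤ I) :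
    Module.Finite A (chartK K x y ⧸ weakK I d K x y) := by
  classical
  have hx0 := ne_zero' (K := K) h
  set T : chartK K x y := ⟨φ y / φ x, Algebra.self_mem_adjoin_singleton A _⟩
  have hxT : algebraMap A (chartK K x y) x * T = algebraMap A (chartK K x y) y := Subtype.ext (by
    show φ x * (φ y / φ x) = φ y
    field_simp)
  let xB : Ideal (chartK K x y) := Ideal.span {algebraMap A (chartK K x y) x}
  have hmB : ∀ r ∈ maximalIdeal A, algebraMap A (chartK K x y) r ∈ xB := by
    intro r hr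
    rw [h.span, Ideal.mem_span_pair] at hr
    obtain ⟨a, b, rfl⟩ := hr
    refine Ideal.mem_span_singleton'.2 ⟨algebraMap A _ a + algebraMap A _ b * T, ?_⟩
    rw [map_add, map_mul, map_mul, ← hxT]
    ring
  obtain ⟨i, hiI, him⟩ := SetLike.not_le_iff_exists.1 hId
  obtain ⟨g, hgB⟩ : ∃ g : chartK K x y, φ x ^ d * (g : K) = φ i :=
    ⟨⟨_, exists_div h i (hI hiI)⟩, by field_simp⟩
  have hgI : g ∈ weakK I d K x y := by
    rw [mem_weakK, hgB, Algebra.algebraMap_eq_smul_one]
    exact Submodule.smul_mem_smul hiI ((Subalgebra.mem_toSubmodule _).2 (one_mem _))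
  have hgx : g ∉ xB := by
    intro hg
    obtain ⟨c, hc⟩ := Ideal.mem_span_singleton'.1 hg
    refine him (mem_pow_of_eq h c.2 ?_)
    rw [← hgB, ← hc, Subalgebra.coe_mul, pow_succ]
    show φ x ^ d * ((c : K) * φ x) = _
    ring
  obtain ⟨G, hG⟩ : ∃ G : Polynomial A, Polynomial.aeval T G = g := by
    have hmem : (g : K) ∈ Algebra.adjoin A {φ y / φ x} := g.2
    rw [Algebra.adjoin_singleton_eq_range_aeval] at hmem
    obtain ⟨G, hG⟩ := hmem
    refine ⟨G, Subtype.ext ?_⟩
    rw [Polynomial.aeval_subalgebra_coe]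
    exact hG
  have hGm : (G.map (residue A)) ≠ 0 := by
    intro h0
    refine hgx ?_
    rw [← hG, Polynomial.aeval_eq_sum_range]
    refine sum_mem fun j _ => ?_
    rw [Algebra.smul_def]
    refine Ideal.mul_mem_right _ _ (hmB _ ?_)
    rw [← residue_eq_zero_iff, ← Polynomial.coeff_map, h0, Polynomial.coeff_zero]
  set e := (G.map (residue A)).natDegree
  have hu : IsUnit (G.coeff e) := by
    rw [← residue_ne_zero_iff_isUnit, ← Polynomial.coeff_map]
    exact Polynomial.leadingCoeff_ne_zero.mpr hGm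
  let W : Submodule A (chartK K x y) :=
    Submodule.span A (Set.range fun j : Fin e => T ^ (j : ℕ)) ⊔ (weakK I d K x y).restrictScalars A
  let W' : Submodule A (chartK K x y) := W ⊔ xB.restrictScalars A
  have hTe : T ^ e ∈ W' := by
    have hsum : g - G.coeff e • T ^ e ∈ W' := by
      rw [← hG, Polynomial.aeval_eq_sum_range' (n := G.natDegree + e + 1) (by omega),
        Finset.sum_eq_sum_sdiff_singleton_add (i := e) (Finset.mem_range.2 (by omega)), add_sub_cancel_right]
      refine sum_mem fun j hj => ?_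
      rw [Finset.mem_sdiff, Finset.mem_singleton] at hj
      rcases lt_or_gt_of_ne hj.2 with hlt | hgt
      · exact W'.smul_mem _ (Submodule.mem_sup_left (Submodule.mem_sup_left
          (Submodule.subset_span ⟨⟨j, hlt⟩, rfl⟩)))
      · refine Submodule.mem_sup_right ?_
        show G.coeff j • T ^ j ∈ xB
        rw [Algebra.smul_def]
        refine Ideal.mul_mem_right _ _ (hmB _ ?_)
        rw [← residue_eq_zero_iff, ← Polynomial.coeff_map]
        exact Polynomial.coeff_eq_zero_of_natDegree_lt hgt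
    have hg' : g ∈ W' := Submodule.mem_sup_left (Submodule.mem_sup_right hgI)
    have := W'.sub_mem hg' hsum
    rw [sub_sub_cancel] at this
    obtain ⟨v, hv⟩ := hu.exists_left_inv
    have h2 := W'.smul_mem v this
    rwa [smul_smul, hv, one_smul] at h2
  have hTmul : ∀ w ∈ W', T * w ∈ W' := by
    intro w hw
    obtain ⟨p, hp, q, hq, rfl⟩ := Submodule.mem_sup.1 hw
    obtain ⟨p₁, hp₁, p₂, hp₂, rfl⟩ := Submodule.mem_sup.1 hp
    rw [mul_add, mul_add]
    refine add_mem (add_mem ?_ ?_) (Submodule.mem_sup_right (Ideal.mul_mem_left xB T hq))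
    · clear hp hw
      induction hp₁ using Submodule.span_induction with
      | mem z hz =>
        obtain ⟨j, rfl⟩ := hz
        show T * T ^ (j : ℕ) ∈ W'
        rw [← pow_succ']
        rcases (Nat.succ_le_of_lt j.2).lt_or_eq with hlt | heq
        · exact Submodule.mem_sup_left (Submodule.mem_sup_left (Submodule.subset_span ⟨⟨_, hlt⟩, rfl⟩))
        · rw [show (j : ℕ) + 1 = e from heq]; exact hTe
      | zero => rw [mul_zero]; exact zero_mem _
      | add a b _ _ ha hb => rw [mul_add]; exact add_mem ha hb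
      | smul r a _ ha => rw [mul_smul_comm]; exact W'.smul_mem r ha
    · exact Submodule.mem_sup_left (Submodule.mem_sup_right (Ideal.mul_mem_left (weakK I d K x y) T hp₂))
  have hpow : ∀ j, T ^ j ∈ W' := by
    intro j
    induction j with
    | zero =>
      rcases Nat.eq_zero_or_pos e with he | he
      · have := hTe; rwa [he] at this
      · exact Submodule.mem_sup_left (Submodule.mem_sup_left (Submodule.subset_span ⟨⟨0, he⟩, rfl⟩))
    | succ j ih => rw [pow_succ']; exact hTmul _ ih
  have hall : ∀ w : chartK K x y, w ∈ W' := by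
    intro w
    have hmem : (w : K) ∈ Algebra.adjoin A {φ y / φ x} := w.2
    rw [Algebra.adjoin_singleton_eq_range_aeval] at hmem
    obtain ⟨P, hP⟩ := hmem
    have : Polynomial.aeval T P = w := Subtype.ext (by
      rw [Polynomial.aeval_subalgebra_coe]; exact hP)
    rw [← this, Polynomial.aeval_eq_sum_range]
    exact sum_mem fun j _ => W'.smul_mem _ (hpow j)
  have hiter : ∀ j (w : chartK K x y), ∃ p ∈ W, ∃ q, w = p + x ^ j • q := by
    intro j
    induction j with
    | zero => exact fun w => ⟨0, zero_mem _, w, by simp⟩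
    | succ j ih =>
      intro w
      obtain ⟨p, hp, q, rfl⟩ := ih w
      obtain ⟨p', hp', r, hr, hqr⟩ := Submodule.mem_sup.1 (hall q)
      obtain ⟨c, rfl⟩ := Ideal.mem_span_singleton'.1 hr
      refine ⟨p + x ^ j • p', add_mem hp (W.smul_mem _ hp'), c, ?_⟩
      rw [← hqr, smul_add, add_assoc, pow_succ, mul_smul, Algebra.smul_def x c]
      congr 3
      exact mul_comm _ _
  refine ⟨⟨Finset.univ.image fun j : Fin e => Ideal.Quotient.mk _ (T ^ (j : ℕ)), top_unique fun z hz0 => ?_⟩⟩
  clear hz0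
  obtain ⟨w, rfl⟩ := Ideal.Quotient.mk_surjective z
  obtain ⟨p, hp, q, rfl⟩ := hiter n w
  have hq0 : Ideal.Quotient.mk (weakK I d K x y) (x ^ n • q) = 0 :=
    smul_quot_eq_zero (hIn (Ideal.pow_mem_pow h.memx n)) (Ideal.Quotient.mk _ q)
  rw [map_add, hq0, add_zero]
  obtain ⟨p₁, hp₁, p₂, hp₂, rfl⟩ := Submodule.mem_sup.1 hp
  rw [map_add, Ideal.Quotient.eq_zero_iff_mem.2 hp₂, add_zero]
  clear hp hq0
  induction hp₁ using Submodule.span_induction with
  | mem z hz =>
    obtain ⟨j, rfl⟩ := hz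
    exact Submodule.subset_span (Finset.mem_coe.2 (Finset.mem_image.2 ⟨j, Finset.mem_univ _, rfl⟩))
  | zero => rw [map_zero]; exact zero_mem _
  | add a b _ _ ha hb => rw [map_add]; exact add_mem ha hb
  | smul r a _ ha =>
    show Ideal.Quotient.mk _ (r • a) ∈ _
    exact Submodule.smul_mem _ r ha

theorem isArtinianRing_quot [IsNoetherianRing A] {n : ℕ} (hIn : maximalIdeal A ^ n ≤ I)
    (hIm : I ≤ maximalIdeal A) : IsArtinianRing (A ⧸ I) := by
  refine IsLocalRing.quotient_artinian_of_mem_minimalPrimes_of_isLocalRing I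
    ⟨⟨(maximalIdeal.isMaximal A).isPrime, hIm⟩, fun P hP _ => ?_⟩
  exact hP.1.le_of_pow_le (hIn.trans hP.2)

theorem isArtinian_quot [IsNoetherianRing A] (h : Params x y) (hI : I ≤ maximalIdeal A ^ d)
    (hId : ¬ I ≤ maximalIdeal A ^ (d + 1)) {n : ℕ} (hIn : maximalIdeal A ^ n ≤ I)
    (hIm : I ≤ maximalIdeal A) : IsArtinian A (chartK K x y ⧸ weakK I d K x y) := by
  haveI := isArtinianRing_quot hIn hIm
  haveI := finite_quot (K := K) h hI hId hIn
  obtain ⟨m, v, hv⟩ := Module.Finite.exists_fin (R := A) (M := chartK K x y ⧸ weakK I d K x y)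
  haveI : IsArtinian A (A ⧸ I) := isArtinian_of_surjective_algebraMap (S := A) (Ideal.Quotient.mk_surjective (I := I))
  let π : A ⧸ I →ₗ[A] Module.End A (chartK K x y ⧸ weakK I d K x y) :=
    Submodule.liftQ I (LinearMap.toSpanSingleton A (Module.End A (chartK K x y ⧸ weakK I d K x y)) 1) fun r hr => by
      refine LinearMap.ext fun z => ?_
      simp [smul_quot_eq_zero hr z]
  refine isArtinian_of_surjective (M := Fin m → A ⧸ I)
    (∑ j, (LinearMap.applyₗ (v j)).comp (π.comp (LinearMap.proj j))) fun z => ?_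
  obtain ⟨c, hc⟩ := (Submodule.mem_span_range_iff_exists_fun A).1 (hv.ge (Submodule.mem_top (x := z)))
  exact ⟨fun j => Submodule.Quotient.mk (c j), by
    simp [π, ← hc]
    exact Finset.sum_congr rfl fun j _ => rfl⟩

/-- The weak transform has colength smaller than the ideal. -/
theorem length_lt [IsNoetherianRing A] (h : Params x y) (hI : I ≤ maximalIdeal A ^ d) (hd : 0 < d)
    (hId : ¬ I ≤ maximalIdeal A ^ (d + 1)) {n : ℕ} (hIn : maximalIdeal A ^ n ≤ I)
    {Γ : Type u} [AddCommGroup Γ] [Module A Γ]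
    (f₀ : Γ →ₗ[A] chartK K x y ⧸ weakK I d K x y) (f₁ : Γ →ₗ[A] chartK K y x ⧸ weakK I d K y x)
    (hinj : ∀ g, f₀ g = 0 → f₁ g = 0 → g = 0)
    (hcompat : ∀ g (c₀ : chartK K x y) (c₁ : chartK K y x), Ideal.Quotient.mk _ c₀ = f₀ g →
      Ideal.Quotient.mk _ c₁ = f₁ g →
      φ x ^ d * ((c₀ : K) - (c₁ : K)) ∈ I • (bothK K x y).toSubmodule) :
    Module.length A Γ < Module.length A (A ⧸ I) := by
  classical
  have hIm : I ≤ maximalIdeal A := hI.trans (Ideal.pow_le_self hd.ne')
  have hx0 := ne_zero' (K := K) h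
  have hy0 := ne_zero' (K := K) h.symm
  haveI := isArtinian_quot (K := K) h hI hId hIn hIm
  set R₀ := chartK K x y ⧸ weakK I d K x y
  haveI : IsArtinian R₀ R₀ := isArtinian_of_tower A (inferInstance : IsArtinian A R₀)
  set T : chartK K x y := ⟨φ y / φ x, Algebra.self_mem_adjoin_singleton A _⟩
  set J := I • (bothK K x y).toSubmodule
  -- a unit agreeing with `T` on the overlap
  obtain ⟨N, c, hc⟩ := IsArtinian.exists_pow_succ_smul_dvd (Ideal.Quotient.mk (weakK I d K x y) T) (1 : R₀)
  simp only [smul_eq_mul, mul_one] at hc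
  set t : R₀ := Ideal.Quotient.mk (weakK I d K x y) T
  have hct : t ^ N = t ^ (N + (N + 1)) * c ^ (N + 1) := by
    have : ∀ j, t ^ N = t ^ (N + j) * c ^ j := fun j => by
      induction j with
      | zero => simp
      | succ j ih =>
        calc t ^ N = t ^ (N + j) * c ^ j := ih
          _ = t ^ j * t ^ N * c ^ j := by ring
          _ = t ^ j * (t ^ (N + 1) * c) * c ^ j := by rw [show t ^ (N + 1) * c = t ^ N from hc]
          _ = t ^ (N + (j + 1)) * c ^ (j + 1) := by ring
    exact this (N + 1)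
  set ε : R₀ := t ^ (N + 1) * c ^ (N + 1)
  have hε : ε * ε = ε := by
    calc ε * ε = t * (t ^ (N + (N + 1)) * c ^ (N + 1)) * c ^ (N + 1) := by simp only [ε]; ring
      _ = ε := by rw [← hct]; simp only [ε]; ring
  have hεt : (1 - ε) * t ^ N = 0 := by
    rw [sub_mul, one_mul, sub_eq_zero]
    conv_lhs => rw [hct]
    simp only [ε]
    ring
  set u : R₀ := t * ε + (1 - ε)
  have hu : IsUnit u := by
    refine IsUnit.of_mul_eq_one (t ^ N * c ^ (N + 1) * ε + (1 - ε)) ?_
    have h2 : ε = t * (t ^ N * c ^ (N + 1)) := by simp only [ε]; ring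
    linear_combination (ε + 2 - t - t ^ N * c ^ (N + 1)) * hε - ε ^ 2 * h2
  obtain ⟨ε', hε'⟩ := Ideal.Quotient.mk_surjective ε
  let u' : chartK K x y := T * ε' + (1 - ε')
  have hu' : Ideal.Quotient.mk _ u' = u := by simp [u', u, hε', t]
  have hTd : ∀ j, ((T : K) ^ j) ∈ bothK K x y := fun j => pow_mem (chartK_le_bothK T.2) j
  have hS : φ x / φ y ∈ bothK K x y := Algebra.subset_adjoin (by simp)
  have hTS : (T : K) * (φ x / φ y) = 1 := by
    show φ y / φ x * (φ x / φ y) = 1
    field_simp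
  have hJ0 : I • (chartK K x y).toSubmodule ≤ J := Submodule.smul_mono le_rfl chartK_le_bothK
  have hJ1 : I • (chartK K y x).toSubmodule ≤ J :=
    Submodule.smul_mono le_rfl (fun z hz => bothK_symm (K := K) (x := x) (y := y) ▸ chartK_le_bothK hz)
  have hε1 : φ x ^ d * (1 - (ε' : K)) ∈ J := by
    have h1 : (1 - ε') * T ^ N ∈ weakK I d K x y := by
      rw [← Ideal.Quotient.eq_zero_iff_mem, map_mul, map_sub, map_one, map_pow, hε']
      exact hεt
    have h2 := mul_mem_smul I _ (hJ0 (mem_weakK.1 h1)) (pow_mem hS N)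
    convert h2 using 1
    push_cast
    calc φ x ^ d * (1 - (ε' : K)) = φ x ^ d * (1 - (ε' : K)) * ((T : K) * (φ x / φ y)) ^ N := by
          rw [hTS, one_pow, mul_one]
      _ = _ := by rw [mul_pow]; ring
  have hud : φ x ^ d * ((u' : K) ^ d - (T : K) ^ d) ∈ J := by
    rw [← geom_sum₂_mul]
    have h1 : φ x ^ d * ((u' : K) - (T : K)) ∈ J := by
      have := mul_mem_smul I (bothK K x y) hε1 (sub_mem (one_mem _) (chartK_le_bothK T.2))
      convert this using 1
      simp only [u']
      push_cast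
      ring
    rw [mul_left_comm]
    exact mul_mem_smul I _ h1 (sum_mem fun i _ => mul_mem (pow_mem (chartK_le_bothK u'.2) _) (hTd _))
  -- the two division maps
  have hdiv : ∀ (z w : A) (hz : Params z w),
      ∀ a : (maximalIdeal A ^ d : Ideal A), ((LinearMap.mulLeft A ((φ z ^ d)⁻¹)).comp
        ((Algebra.linearMap A K).comp (maximalIdeal A ^ d).subtype)) a ∈ (chartK K z w).toSubmodule := by
    intro z w hz a
    simpa [div_eq_inv_mul] using exists_div (K := K) hz (a : A) a.2
  let D₀ : (maximalIdeal A ^ d : Ideal A) →ₗ[A] R₀ :=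
    ((Ideal.Quotient.mkₐ A (weakK I d K x y)).toLinearMap).comp
      (LinearMap.codRestrict (chartK K x y).toSubmodule _ (hdiv x y h))
  let D₁ : (maximalIdeal A ^ d : Ideal A) →ₗ[A] chartK K y x ⧸ weakK I d K y x :=
    ((Ideal.Quotient.mkₐ A (weakK I d K y x)).toLinearMap).comp
      (LinearMap.codRestrict (chartK K y x).toSubmodule _ (hdiv y x h.symm))
  let ψ := D₀.prod D₁
  let F : Γ →ₗ[A] R₀ × (chartK K y x ⧸ weakK I d K y x) := ((LinearMap.mulLeft A (u ^ d)).comp f₀).prod f₁
  have hF : Function.Injective F := by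
    rw [← LinearMap.ker_eq_bot, Submodule.eq_bot_iff]
    intro g hg
    obtain ⟨h0, h1⟩ := Prod.mk.inj hg
    exact hinj g ((hu.pow d).mul_right_eq_zero.mp h0) h1
  have hrange : ∀ g, F g ∈ LinearMap.range ψ := by
    intro g
    obtain ⟨c₀, hc₀⟩ := Ideal.Quotient.mk_surjective (f₀ g)
    obtain ⟨c₁, hc₁⟩ := Ideal.Quotient.mk_surjective (f₁ g)
    have h1 : φ x ^ d * ((u' : K) ^ d * c₀ - (T : K) ^ d * c₁) ∈ J := by
      have e1 := mul_mem_smul I _ hud (chartK_le_bothK c₀.2)
      have e2 := mul_mem_smul I _ (hcompat g c₀ c₁ hc₀ hc₁) (hTd d)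
      convert add_mem e1 e2 using 1
      ring
    have h2 : J ≤ I • (chartK K x y).toSubmodule ⊔ I • (chartK K y x).toSubmodule := by
      rw [← Submodule.smul_sup]
      exact Submodule.smul_mono le_rfl (bothK_le h)
    obtain ⟨j₀, hj₀, j₁, hj₁, hj⟩ := Submodule.mem_sup.1 (h2 h1)
    have hdivJ : ∀ (z w : A) (hz : Params z w) (j : K), j ∈ I • (chartK K z w).toSubmodule →
        j / φ z ^ d ∈ chartK K z w := by
      intro z w hz j hj
      refine Submodule.smul_induction_on hj (fun r hr c hc => ?_) fun p q hp hq => ?_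
      · rw [Algebra.smul_def, mul_comm, mul_div_assoc]
        exact mul_mem hc (exists_div hz r (hI hr))
      · rw [add_div]; exact add_mem hp hq
    have hj0' := hdivJ x y h j₀ hj₀
    have hj1' := hdivJ y x h.symm j₁ hj₁
    have hyT : φ y ^ d = φ x ^ d * (T : K) ^ d := by
      show _ = φ x ^ d * (φ y / φ x) ^ d
      rw [← mul_pow]
      field_simp
    obtain ⟨a, ha, ha'⟩ := exists_of_compat h (sub_mem (mul_mem (pow_mem u'.2 d) c₀.2) hj0')
      (add_mem c₁.2 hj1') (d := d) (by
        rw [mul_sub, mul_add, mul_div_cancel₀ _ (pow_ne_zero _ hx0), mul_div_cancel₀ _ (pow_ne_zero _ hy0), hyT]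
        linear_combination -hj)
    have ha1 : φ a = φ y ^ d * ((c₁ : K) + j₁ / φ y ^ d) := by
      rw [ha', mul_sub, mul_add, mul_div_cancel₀ _ (pow_ne_zero _ hx0),
        mul_div_cancel₀ _ (pow_ne_zero _ hy0), hyT]
      linear_combination -hj
    refine ⟨⟨a, ha⟩, Prod.ext ?_ ?_⟩
    · show _ = u ^ d * f₀ g
      refine Eq.trans (b := Ideal.Quotient.mk _ (u' ^ d * c₀))
        ((Ideal.Quotient.mk_eq_mk_iff_sub_mem _ _).2 (mem_weakK.2 ?_)) (by rw [map_mul, map_pow, hu', hc₀])
      show φ x ^ d * ((φ x ^ d)⁻¹ * φ a - (u' : K) ^ d * (c₀ : K)) ∈ _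
      rw [ha', inv_mul_cancel_left₀ (pow_ne_zero _ hx0), sub_sub_cancel_left, mul_neg,
        mul_div_cancel₀ _ (pow_ne_zero _ hx0)]
      exact neg_mem hj₀
    · show _ = f₁ g
      refine Eq.trans (b := Ideal.Quotient.mk _ c₁)
        ((Ideal.Quotient.mk_eq_mk_iff_sub_mem _ _).2 (mem_weakK.2 ?_)) hc₁
      show φ y ^ d * ((φ y ^ d)⁻¹ * φ a - (c₁ : K)) ∈ _
      rw [ha1, inv_mul_cancel_left₀ (pow_ne_zero _ hy0), add_sub_cancel_left,
        mul_div_cancel₀ _ (pow_ne_zero _ hy0)]
      exact hj₁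
  let π : (maximalIdeal A ^ d : Ideal A) →ₗ[A] A ⧸ I := (Submodule.mkQ I).comp (maximalIdeal A ^ d).subtype
  have hker : LinearMap.ker π ≤ LinearMap.ker ψ := by
    intro a ha
    have haI : (a : A) ∈ I := (Submodule.Quotient.mk_eq_zero I).1 ha
    refine Prod.ext ?_ ?_
    · refine (Ideal.Quotient.eq_zero_iff_mem.2 (mem_weakK.2 ?_))
      show φ x ^ d * ((φ x ^ d)⁻¹ * φ (a : A)) ∈ _
      rw [mul_inv_cancel_left₀ (pow_ne_zero _ hx0), Algebra.algebraMap_eq_smul_one]
      exact Submodule.smul_mem_smul haI ((Subalgebra.mem_toSubmodule _).2 (one_mem _))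
    · refine (Ideal.Quotient.eq_zero_iff_mem.2 (mem_weakK.2 ?_))
      show φ y ^ d * ((φ y ^ d)⁻¹ * φ (a : A)) ∈ _
      rw [mul_inv_cancel_left₀ (pow_ne_zero _ hy0), Algebra.algebraMap_eq_smul_one]
      exact Submodule.smul_mem_smul haI ((Subalgebra.mem_toSubmodule _).2 (one_mem _))
  haveI := isArtinianRing_quot hIn hIm
  haveI : IsArtinian A (A ⧸ I) := isArtinian_of_surjective_algebraMap (S := A) (Ideal.Quotient.mk_surjective (I := I))
  calc Module.length A Γ
      ≤ Module.length A (LinearMap.range ψ) :=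
        Module.length_le_of_injective (F.codRestrict _ hrange) (hF.codRestrict hrange)
    _ ≤ Module.length A (LinearMap.range π) := by
        refine Module.length_le_of_surjective
          ((Submodule.liftQ (LinearMap.ker π) ψ.rangeRestrict (by rwa [LinearMap.ker_rangeRestrict])).comp
            π.quotKerEquivRange.symm.toLinearMap) ?_
        rw [LinearMap.coe_comp, LinearEquiv.coe_coe]
        refine Function.Surjective.comp ?_ (LinearEquiv.surjective _)
        intro z
        obtain ⟨a, ha⟩ := ψ.surjective_rangeRestrict z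
        exact ⟨Submodule.Quotient.mk a, ha⟩
    _ < Module.length A (A ⧸ I) := by
        refine Submodule.length_lt fun htop => ?_
        obtain ⟨a, ha⟩ := htop.ge (Submodule.mem_top (x := Submodule.Quotient.mk (1 : A)))
        have h1 : (a : A) - 1 ∈ I := (Submodule.Quotient.eq I).1 ha
        have h2 : (1 : A) ∈ maximalIdeal A := by
          simpa using sub_mem (Ideal.pow_le_self hd.ne' a.2) (hIm h1)
        exact (maximalIdeal.isMaximal A).ne_top ((Ideal.eq_top_iff_one _).2 h2)

end Groth.Agent.Colength
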