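import Groth.Agent.BlowP1.Chart
import Groth.Agent.BlowPointH1.Main
import Groth.Agent.BlowUpLib.Glue
import Groth.Agent.Lib.BlowUpInt
import Groth.Agent.Colength.Main
import Groth.Prelude.Def_Curv2

/-!
# The charts of the blow-up of a regular surface point, in the function field
-/

set_option autoImplicit false
set_option linter.style.haveILetI false
set_option backward.isDefEq.respectTransparency false
set_option backward.isDefEq.respectTransparency.types false

universe u

open CategoryTheory CategoryTheory.Limits AlgebraicGeometry TopologicalSpace Opposite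

namespace Groth.Agent.Colength

open BlowUpLib RegBlow6

variable {A : Type u} [CommRing A] {X : Scheme.{u}}

/-- The two charts of the blow-up. -/
theorem exists_charts (b : X ⟶ Spec (CommRingCat.of A)) [IsIntegral X] (a : Fin (1 + 1) → A)
    (hb : BlowUp.IsBlowUp b (centre (cI a))) [Algebra A X.functionField]
    (halg : ∀ r, algebraMap A X.functionField r =
      X.presheaf.germ ⊤ (genericPoint X) trivial (strHom b ⊤ r))
    (ha : ∀ k, algebraMap A X.functionField (a k) ≠ 0) :
    ∃ (U : Fin (1 + 1) → X.affineOpens) (hg : ∀ k, genericPoint X ∈ (U k).1),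
      (∀ p, ∃ k, p ∈ (U k).1) ∧
      (∀ k, ((centre (cI a)).comap b).ideal (U k) = Ideal.span {strHom b (U k).1 (a k)}) ∧
      (∀ k (r : A), X.presheaf.germ (U k).1 (genericPoint X) (hg k) (strHom b (U k).1 r) =
        algebraMap A X.functionField r) ∧
      (∀ k, Function.Injective (X.presheaf.germ (U k).1 (genericPoint X) (hg k))) ∧
      (∀ k l, k ≠ l → ∀ z, X.presheaf.germ (U k).1 (genericPoint X) (hg k) z ∈
        chartK X.functionField (a k) (a l)) ∧
      (∀ k l, k ≠ l → ∀ c ∈ chartK X.functionField (a k) (a l),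
        ∃ z, X.presheaf.germ (U k).1 (genericPoint X) (hg k) z = c) ∧
      (∀ k l, k ≠ l → ∀ (w : Γ(X, (U k).1 ⊓ (U l).1)),
        X.presheaf.germ ((U k).1 ⊓ (U l).1) (genericPoint X) ⟨hg k, hg l⟩ w ∈
          bothK X.functionField (a k) (a l)) := by
  obtain ⟨e, he⟩ := exists_iso (isBlowUp_local (cI a)) hb
  have he' : e.inv ≫ toBase (cI a) = b := by rw [← he, e.inv_hom_id_assoc]
  choose U hmem hI hgen using BlowP1.exists_chart_image b a hb e he
  have hne : ∀ k, genericPoint X ∈ (U k).1 := by
    intro k
    have hak : a k ≠ 0 := fun h0 => ha k (by rw [h0, map_zero])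
    haveI : Nontrivial A := ⟨a k, 0, hak⟩
    haveI : Nontrivial (Localization.Away (a k)) := by
      refine nontrivial_of_ne (algebraMap A _ (a k)) 0 fun h0 => ?_
      obtain ⟨⟨_, n, rfl⟩, hn⟩ := (IsLocalization.map_eq_zero_iff (Submonoid.powers (a k)) _ _).1 h0
      refine ha k ?_
      have := congrArg (algebraMap A X.functionField) hn
      simp only [map_mul, map_pow, map_zero, mul_eq_zero, pow_eq_zero_iff', ne_eq] at this
      rcases this with h | h
      · exact h.1
      · exact h
    obtain ⟨P⟩ : Nonempty (PrimeSpectrum (BlowUp.affineAlgebra A (cI a) (a k))) := inferInstance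
    let p : X := e.hom (chart (cI a) ⟨a k, mem_cI a k⟩ P)
    have hp : p ∈ (U k).1 := (hmem k p).2 ⟨P, by
      show _ = e.inv (e.hom _)
      rw [← Scheme.Hom.comp_apply, e.hom_inv_id]
      rfl⟩
    exact ((genericPoint_spec X).specializes (Set.mem_univ p)).mem_open (U k).1.2 hp
  have hres : ∀ (W V : X.Opens) (hVW : V ≤ W) (hη : genericPoint X ∈ V) (r : A),
      X.presheaf.germ V _ hη (strHom b V r) = X.presheaf.germ W _ (hVW hη) (strHom b W r) := by
    intro W V hVW hη r
    rw [← BlowP1.res_strHom b hVW r]
    exact TopCat.Presheaf.germ_res_apply X.presheaf (homOfLE hVW) _ hη _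
  have hgalg : ∀ k (r : A), X.presheaf.germ (U k).1 _ (hne k) (strHom b (U k).1 r) =
      algebraMap A X.functionField r := fun k r => (hres ⊤ (U k).1 le_top (hne k) r).trans (halg r).symm
  have hinj : ∀ k, Function.Injective (X.presheaf.germ (U k).1 _ (hne k)) :=
    fun k => germ_injective_of_isIntegral X (genericPoint X) (hne k)
  have hfrac : ∀ k l, ∃ z, z * strHom b (U k).1 (a k) = strHom b (U k).1 (a l) := by
    intro k l
    have : strHom b (U k).1 (a l) ∈ ((centre (cI a)).comap b).ideal (U k) := by
      rw [ideal_comap_centre]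
      exact Ideal.mem_map_of_mem _ (mem_cI a l)
    rw [hI k] at this
    exact Ideal.mem_span_singleton'.1 this
  refine ⟨U, hne, fun p => ?_, hI, hgalg, hinj, ?_, ?_, ?_⟩
  · obtain ⟨k, hk⟩ := chart_covers_gens a (e.inv p)
    exact ⟨k, (hmem k p).2 hk⟩
  · intro k l hkl z
    let S : Subring Γ(X, (U k).1) :=
      (chartK X.functionField (a k) (a l)).toSubring.comap (X.presheaf.germ (U k).1 _ (hne k)).hom
    have hS : S = ⊤ := hgen k S (fun c => by
      show X.presheaf.germ (U k).1 _ (hne k) _ ∈ chartK X.functionField (a k) (a l)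
      rw [hgalg]
      exact Subalgebra.algebraMap_mem _ c) fun l' z hz => by
      show X.presheaf.germ (U k).1 _ (hne k) z ∈ chartK X.functionField (a k) (a l)
      have h1 := congrArg (X.presheaf.germ (U k).1 _ (hne k)) hz
      rw [map_mul, hgalg, hgalg, ← eq_div_iff (ha k)] at h1
      rw [h1]
      have : l' = k ∨ l' = l := by omega
      rcases this with rfl | rfl
      · rw [div_self (ha l')]; exact one_mem _
      · exact Algebra.self_mem_adjoin_singleton A _
    exact (show z ∈ S by rw [hS]; trivial)
  · intro k l hkl c hc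
    let R : Subalgebra A X.functionField :=
      { (X.presheaf.germ (U k).1 _ (hne k)).hom.range.toSubsemiring with
        algebraMap_mem' := fun r => ⟨strHom b (U k).1 r, hgalg k r⟩ }
    have hT : algebraMap A X.functionField (a l) / algebraMap A X.functionField (a k) ∈ R := by
      obtain ⟨z, hz⟩ := hfrac k l
      refine ⟨z, ?_⟩
      have h1 := congrArg (X.presheaf.germ (U k).1 _ (hne k)) hz
      rw [map_mul, hgalg, hgalg, ← eq_div_iff (ha k)] at h1
      exact h1
    exact (Algebra.adjoin_le (Set.singleton_subset_iff.2 hT) : chartK X.functionField (a k) (a l) ≤ R) hc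
  · intro k l hkl w
    obtain ⟨T, hT⟩ := hfrac k l
    obtain ⟨S, hS⟩ := hfrac l k
    let i₁ : (U k).1 ⊓ (U l).1 ≤ (U k).1 := inf_le_left
    have hbo : X.basicOpen T = (U k).1 ⊓ (U l).1 := by
      refine le_antisymm (le_inf (X.basicOpen_le T) ?_) ?_
      · intro p hp
        let W : X.affineOpens := ⟨X.basicOpen T, (U k).2.basicOpen T⟩
        refine (hmem l p).2 (range_subset_chart (cI a) hb.1 e.inv he' ⟨a l, mem_cI a l⟩ W ?_ p hp)
        have hle : (W.1 : X.Opens) ≤ (U k).1 := X.basicOpen_le T
        rw [← ((centre (cI a)).comap b).map_ideal (U := W) (V := U k) hle, hI k, Ideal.map_span,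
          Set.image_singleton]
        have hu : IsUnit (X.presheaf.map (homOfLE hle).op T) :=
          RingedSpace.isUnit_res_basicOpen X.toLocallyRingedSpace.toRingedSpace T
        have e1 : strHom b W.1 (a l) =
            X.presheaf.map (homOfLE hle).op T * X.presheaf.map (homOfLE hle).op (strHom b (U k).1 (a k)) := by
          rw [← map_mul, hT]
          exact (BlowP1.res_strHom b hle (a l)).symm
        rw [e1, Ideal.span_singleton_mul_left_unit hu]
        rfl
      · intro p hp
        have h1 : IsUnit (X.presheaf.map (homOfLE i₁).op T) := by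
          refine IsUnit.of_mul_eq_one
            (X.presheaf.map (homOfLE (inf_le_right : (U k).1 ⊓ (U l).1 ≤ (U l).1)).op S) ?_
          refine germ_injective_of_isIntegral X (U := (U k).1 ⊓ (U l).1) (genericPoint X) ⟨hne k, hne l⟩ ?_
          rw [map_mul, map_one, TopCat.Presheaf.germ_res_apply, TopCat.Presheaf.germ_res_apply]
          have h1 := congrArg (X.presheaf.germ (U k).1 _ (hne k)) hT
          have h2 := congrArg (X.presheaf.germ (U l).1 _ (hne l)) hS
          rw [map_mul, hgalg, hgalg, ← eq_div_iff (ha k)] at h1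
          rw [map_mul, hgalg, hgalg, ← eq_div_iff (ha l)] at h2
          rw [h1, h2]
          have := ha k
          have := ha l
          field_simp
        have : p ∈ X.basicOpen (X.presheaf.map (homOfLE i₁).op T) := by
          rw [X.basicOpen_of_isUnit h1]; exact hp
        rw [Scheme.basicOpen_res] at this
        exact this.2
    letI : Algebra Γ(X, (U k).1) Γ(X, (U k).1 ⊓ (U l).1) := (X.presheaf.map (homOfLE i₁).op).hom.toAlgebra
    haveI : IsLocalization.Away T Γ(X, (U k).1 ⊓ (U l).1) :=
      (U k).2.isLocalization_of_eq_basicOpen T (homOfLE i₁) hbo.symm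
    obtain ⟨⟨f, ⟨_, n, rfl⟩⟩, hf⟩ := IsLocalization.surj (Submonoid.powers T) w
    have hchart : ∀ z, X.presheaf.germ (U k).1 _ (hne k) z ∈ bothK X.functionField (a k) (a l) := by
      intro z
      let S' : Subring Γ(X, (U k).1) :=
        (bothK X.functionField (a k) (a l)).toSubring.comap (X.presheaf.germ (U k).1 _ (hne k)).hom
      have hS' : S' = ⊤ := hgen k S' (fun c => by
        show X.presheaf.germ (U k).1 _ (hne k) _ ∈ bothK X.functionField (a k) (a l)
        rw [hgalg]
        exact Subalgebra.algebraMap_mem _ c) fun l' z hz => by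
        show X.presheaf.germ (U k).1 _ (hne k) z ∈ bothK X.functionField (a k) (a l)
        have h1 := congrArg (X.presheaf.germ (U k).1 _ (hne k)) hz
        rw [map_mul, hgalg, hgalg, ← eq_div_iff (ha k)] at h1
        rw [h1]
        have : l' = k ∨ l' = l := by omega
        rcases this with rfl | rfl
        · rw [div_self (ha l')]; exact one_mem _
        · exact Algebra.subset_adjoin (Set.mem_insert _ _)
      exact (show z ∈ S' by rw [hS']; trivial)
    have h3 := congrArg (X.presheaf.germ ((U k).1 ⊓ (U l).1) _ ⟨hne k, hne l⟩) hf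
    rw [map_mul] at h3
    change _ * X.presheaf.germ ((U k).1 ⊓ (U l).1) _ ⟨hne k, hne l⟩
        (X.presheaf.map (homOfLE i₁).op (T ^ n)) =
      X.presheaf.germ ((U k).1 ⊓ (U l).1) _ ⟨hne k, hne l⟩ (X.presheaf.map (homOfLE i₁).op f) at h3
    rw [TopCat.Presheaf.germ_res_apply, TopCat.Presheaf.germ_res_apply, map_pow] at h3
    have h1 := congrArg (X.presheaf.germ (U k).1 _ (hne k)) hT
    rw [map_mul, hgalg, hgalg, ← eq_div_iff (ha k)] at h1
    rw [h1] at h3
    have hT0 : algebraMap A X.functionField (a l) / algebraMap A X.functionField (a k) ≠ 0 :=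
      div_ne_zero (ha l) (ha k)
    rw [← eq_div_iff (pow_ne_zero n hT0)] at h3
    rw [h3, div_eq_mul_inv, ← inv_pow, inv_div]
    exact mul_mem (hchart f) (pow_mem (Algebra.subset_adjoin (by simp)) n)

end Groth.Agent.Colength
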